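import Cfsg.Agent.Helper23.S2855NCL
import Cfsg.Agent.Helper29.S2855SYLINT
import Cfsg.Agent.Helper26.S2855EXUN
import Cfsg.Agent.Helper29.S2855NOTLE
import Cfsg.Agent.Helper26.S2855INTLE
import Cfsg.Agent.Helper21.S2855PROP

/-!
S2855 piece project: assembly of the first half (`p`-minimality).
-/

set_option autoImplicit false
set_option linter.unusedSectionVars false
set_option linter.unusedVariables false

namespace Cfsg.Agent.S2855P

open Cfsg Cfsg.Agent.Helper14
open scoped commutatorElement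

variable {H : Type*} [Group H] [Finite H] {p : ℕ} [Fact p.Prime]

theorem normal_sSup_of_inv (𝒦 : Set (Subgroup H))
    (hinv : ∀ h : H, ∀ E ∈ 𝒦, E.map (MulAut.conj h).toMonoidHom ∈ 𝒦) : (sSup 𝒦).Normal := by
  constructor
  intro x hx g
  have h1 : g * x * g⁻¹ ∈ (sSup 𝒦).map (MulAut.conj g).toMonoidHom := ⟨x, hx, rfl⟩
  have h2 : (sSup 𝒦).map (MulAut.conj g).toMonoidHom ≤ sSup 𝒦 := by
    rw [Subgroup.map_le_iff_le_comap]
    apply sSup_le
    intro E hE
    rw [← Subgroup.map_le_iff_le_comap]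
    exact le_sSup (hinv g E hE)
  exact h2 h1

/-- the first half of S2855 -/
theorem minimal_part (𝒦 : Set (Subgroup H)) (hne : 𝒦.Nonempty)
    (hinv : ∀ h : H, ∀ E ∈ 𝒦, E.map (MulAut.conj h).toMonoidHom ∈ 𝒦)
    (htr : ∀ E ∈ 𝒦, ∀ K ∈ 𝒦, ∃ h : H, K = E.map (MulAut.conj h).toMonoidHom)
    (hres : pResidual p H ≤ sSup 𝒦)
    (hnorm : ∀ E ∈ 𝒦, sSup 𝒦 ⊔ pCore p H ≤
      Subgroup.normalizer ((E ⊔ pCore p H : Subgroup H) : Set H))
    (hmin : ∀ E ∈ 𝒦, ∀ T : Sylow p ↥E, IsMinimalOver (T : Subgroup ↥E)) (T : Sylow p H) :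
    IsMinimalOver (T : Subgroup H) := by
  have hRn : (sSup 𝒦).Normal := normal_sSup_of_inv 𝒦 hinv
  have hQn : (pCore p H).Normal := inferInstance
  have hRQn : (sSup 𝒦 ⊔ pCore p H).Normal := inferInstance
  -- Sylow subgroups `T ∩ E`
  have hSyl : ∀ E ∈ 𝒦, IsSylowIn p ((T : Subgroup H) ⊓ E) E := fun E hE =>
    sylow_inf_isSylowIn_of_chain T (pCore p H) (sSup 𝒦 ⊔ pCore p H) E (pCore_isPGroup p)
      (sup_le_sup_right (le_sSup hE) _) (hnorm E hE)
  have hcoe : ∀ E (hE : E ∈ 𝒦), (((hSyl E hE).toSylow : Sylow p ↥E) : Subgroup ↥E) =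
      (T : Subgroup H).subgroupOf E := fun E hE => by
    show ((T : Subgroup H) ⊓ E).subgroupOf E = _
    exact Subgroup.inf_subgroupOf_right _ _
  have hex : ∀ E ∈ 𝒦, ∃ M, IsMaxOver (T : Subgroup H) E M ∧
      ∀ M', IsMaxOver (T : Subgroup H) E M' → M' = M := fun E hE =>
    exists_unique_isMaxOver (T : Subgroup H) E (hSyl E hE).toSylow (hcoe E hE)
      (hmin E hE _)
  refine ⟨normalClosure_sylow_eq_top 𝒦 hres (fun E hE T' => (hmin E hE T').1) T, ?_⟩
  -- existence
  have hTtop : (T : Subgroup H) ≠ ⊤ := by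
    intro htop
    obtain ⟨E, hE⟩ := hne
    obtain ⟨M, ⟨hME, hco, hTM⟩, -⟩ := hex E hE
    rw [htop, top_inf_eq] at hTM
    apply hco.1
    rw [Subgroup.subgroupOf_eq_top]
    exact hTM
  obtain ⟨L, hL, hTL⟩ := exists_coatom_ge_of_ne_top hTtop
  refine ⟨L, ⟨hL, hTL⟩, ?_⟩
  -- uniqueness
  have key : ∀ L₁ L₂ : Subgroup H, IsCoatom L₁ → (T : Subgroup H) ≤ L₁ → IsCoatom L₂ →
      (T : Subgroup H) ≤ L₂ → L₁ = L₂ := by
    intro L₁ L₂ hL₁ hT₁ hL₂ hT₂
    by_contra hne12
    let P : H → Prop := fun h => ∀ E ∈ 𝒦, ∀ M, IsMaxOver (T : Subgroup H) E M →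
      IsMaxOver (T : Subgroup H) (E.map (cj h)) (M.map (cj h))
    have hPL : ∀ L' : Subgroup H, IsCoatom L' → (T : Subgroup H) ≤ L' → ∀ h ∈ L', P h := by
      intro L' hL' hT' h hh E hE M hM
      obtain ⟨M0, hM0, hu⟩ := hex E hE
      have e : M = M0 := hu M hM
      have hnle := not_le_coatom 𝒦 htr hinv hres hnorm T L' hL' hT' E hE
      have hint := inf_le_of_unique_isMaxOver (T : Subgroup H) L' E M hT' hnle
        (fun M' hM' => (hu M' hM').trans e.symm)
      exact isMaxOver_map_conj (T : Subgroup H) L' E M hT' h hh hM hint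
    let SP : Subgroup H :=
      { carrier := {h | P h}
        one_mem' := by
          intro E hE M hM
          rw [map_cj_one, map_cj_one]
          exact hM
        mul_mem' := by
          intro g h hg hh E hE M hM
          have h1 := hh E hE M hM
          have h2 := hg (E.map (cj h)) (hinv h E hE) (M.map (cj h)) h1
          rw [map_cj_mul, map_cj_mul] at h2
          exact h2
        inv_mem' := by
          intro h hh E hE M hM
          obtain ⟨M0, hM0, hu⟩ := hex E hE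
          have hE' : E.map (cj h⁻¹) ∈ 𝒦 := hinv h⁻¹ E hE
          obtain ⟨M', hM', hu'⟩ := hex _ hE'
          have h1 := hh _ hE' M' hM'
          rw [map_cj_inv_map_cj] at h1
          have e1 : M'.map (cj h) = M := (hu _ h1).trans (hu M hM).symm
          have e2 : M.map (cj h⁻¹) = M' := by
            rw [← e1, map_cj_map_cj_inv]
          rw [e2]
          exact hM' }
    have hSPtop : SP = ⊤ := by
      rw [eq_top_iff, ← hL₁.sup_eq_top_of_ne hL₂ hne12]  -- placeholder
      exact sup_le (fun h hh => hPL L₁ hL₁ hT₁ h hh) (fun h hh => hPL L₂ hL₂ hT₂ h hh)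
    obtain ⟨E, hE⟩ := hne
    obtain ⟨M, hM, hu⟩ := hex E hE
    have hEM : E ≤ Subgroup.normalizer (M : Set H) := by
      apply le_normalizer_of_map_cj_le
      intro e he
      have hPe : P e := by
        have : e ∈ SP := by rw [hSPtop]; exact Subgroup.mem_top e
        exact this
      have h1 := hPe E hE M hM
      rw [map_cj_eq_self_of_mem he] at h1
      exact (hu _ h1).le
    obtain ⟨hME, hco, hTM⟩ := hM
    have hMn : (M.subgroupOf E).Normal :=
      (Subgroup.normal_subgroupOf_iff_le_normalizer hME).2 hEM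
    have hSM : (((hSyl E hE).toSylow : Sylow p ↥E) : Subgroup ↥E) ≤ M.subgroupOf E := by
      rw [hcoe E hE]
      intro x hx
      rw [Subgroup.mem_subgroupOf] at hx ⊢
      exact hTM ⟨hx, x.2⟩
    have h3 := (hmin E hE (hSyl E hE).toSylow).1
    have h4 : Subgroup.normalClosure
        (((((hSyl E hE).toSylow : Sylow p ↥E) : Subgroup ↥E)) : Set ↥E) ≤ M.subgroupOf E :=
      Subgroup.normalClosure_le_normal hSM
    rw [h3] at h4
    exact hco.1 (top_le_iff.1 h4)
  rintro L' ⟨hL', hTL'⟩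
  exact key L' L hL' hTL' hL hTL

end Cfsg.Agent.S2855P
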