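import Cfsg.Agent.S2855P.Red
import Cfsg.Agent.Helper22.S2855SPIMAP
import Cfsg.Agent.Helper21.S2855RESBACK

/-!
S2855 piece project: transfer from `H` to `H / O_p(H)` and the second half of S2855.
-/

set_option autoImplicit false
set_option linter.unusedSectionVars false
set_option linter.unusedVariables false

namespace Cfsg.Agent.S2855P

open Cfsg Cfsg.Agent.Helper14
open scoped commutatorElement

variable {H : Type*} [Group H] [Finite H] {p : ℕ} [Fact p.Prime]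

theorem map_conj_map {G : Type*} [Group G] (f : H →* G) (E : Subgroup H) (g : H) :
    (E.map f).map (MulAut.conj (f g)).toMonoidHom =
      (E.map (MulAut.conj g).toMonoidHom).map f := by
  rw [Subgroup.map_map, Subgroup.map_map]
  congr 1
  ext x
  simp

theorem map_sSup_image {G : Type*} [Group G] (f : H →* G) (𝒦 : Set (Subgroup H)) :
    (sSup 𝒦).map f = sSup ((fun E : Subgroup H => E.map f) '' 𝒦) := by
  rw [sSup_image, (Subgroup.gc_map_comap f).l_sSup]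

theorem red_of_hyps (𝒦 : Set (Subgroup H)) (hne : 𝒦.Nonempty)
    (hinv : ∀ h : H, ∀ E ∈ 𝒦, E.map (MulAut.conj h).toMonoidHom ∈ 𝒦)
    (htr : ∀ E ∈ 𝒦, ∀ K ∈ 𝒦, ∃ h : H, K = E.map (MulAut.conj h).toMonoidHom)
    (hres : pResidual p H ≤ sSup 𝒦)
    (hnorm : ∀ E ∈ 𝒦, sSup 𝒦 ⊔ pCore p H ≤
      Subgroup.normalizer ((E ⊔ pCore p H : Subgroup H) : Set H))
    (hirr : ∀ E ∈ 𝒦, IsStronglyPIrreducible p ↥E) :
    Red p (H ⧸ pCore p H)
      ((fun E : Subgroup H => E.map (QuotientGroup.mk' (pCore p H))) '' 𝒦) := by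
  have hQ : IsPGroup p ↥(pCore p H) := pCore_isPGroup p
  have hQbot : (pCore p H).map (QuotientGroup.mk' (pCore p H)) = ⊥ :=
    QuotientGroup.map_mk'_self _
  refine ⟨?_, hne.image _, ?_, ?_, ?_, ?_, ?_⟩
  · rw [pCore_quotient (pCore p H) hQ, hQbot]
  · rintro gbar _ ⟨E, hE, rfl⟩
    obtain ⟨g, rfl⟩ := QuotientGroup.mk'_surjective (pCore p H) gbar
    exact ⟨_, hinv g E hE, (map_conj_map _ E g).symm⟩
  · rintro _ ⟨E, hE, rfl⟩ _ ⟨K, hK, rfl⟩
    obtain ⟨g, rfl⟩ := htr E hE K hK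
    exact ⟨QuotientGroup.mk' (pCore p H) g, (map_conj_map _ E g).symm⟩
  · rw [pResidual_quotient (pCore p H), ← map_sSup_image]
    exact Subgroup.map_mono hres
  · rintro _ ⟨E, hE, rfl⟩
    rw [← map_sSup_image]
    have h1 : (E ⊔ pCore p H).map (QuotientGroup.mk' (pCore p H)) =
        E.map (QuotientGroup.mk' (pCore p H)) := by
      rw [Subgroup.map_sup, hQbot, sup_bot_eq]
    show (sSup 𝒦).map (QuotientGroup.mk' (pCore p H)) ≤
      Subgroup.normalizer ((E.map (QuotientGroup.mk' (pCore p H)) : Subgroup _) : Set _)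
    rw [← h1]
    refine (Subgroup.map_mono (le_sup_left.trans (hnorm E hE))).trans ?_
    exact Subgroup.le_normalizer_map _
  · rintro _ ⟨E, hE, rfl⟩
    exact isStronglyPIrreducible_map_mk (pCore p H) hQ E (hirr E hE)

/-- the second half of S2855 -/
theorem irreducible_part (𝒦 : Set (Subgroup H)) (hne : 𝒦.Nonempty)
    (hinv : ∀ h : H, ∀ E ∈ 𝒦, E.map (MulAut.conj h).toMonoidHom ∈ 𝒦)
    (htr : ∀ E ∈ 𝒦, ∀ K ∈ 𝒦, ∃ h : H, K = E.map (MulAut.conj h).toMonoidHom)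
    (hres : pResidual p H ≤ sSup 𝒦)
    (hnorm : ∀ E ∈ 𝒦, sSup 𝒦 ⊔ pCore p H ≤
      Subgroup.normalizer ((E ⊔ pCore p H : Subgroup H) : Set H))
    (hirr : ∀ E ∈ 𝒦, IsStronglyPIrreducible p ↥E) :
    IsPIrreducible p H ∧ ∀ E ∈ 𝒦, ∀ K ∈ 𝒦,
      (pResidual p ↥(E ⊔ pCore p H)).map (E ⊔ pCore p H).subtype =
        (pResidual p ↥(K ⊔ pCore p H)).map (K ⊔ pCore p H).subtype ∨
      ⁅E, K⁆ ≤ pCore p H := by
  have hQ : IsPGroup p ↥(pCore p H) := pCore_isPGroup p
  have hQbot : (pCore p H).map (QuotientGroup.mk' (pCore p H)) = ⊥ :=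
    QuotientGroup.map_mk'_self _
  have hr := red_of_hyps 𝒦 hne hinv htr hres hnorm hirr
  obtain ⟨h1, h2⟩ := hr.main
  refine ⟨(isPIrreducible_quotient_iff (pCore p H) hQ).2 h1, ?_⟩
  intro E hE K hK
  rcases h2 _ ⟨E, hE, rfl⟩ _ ⟨K, hK, rfl⟩ with h3 | h3
  · left
    rw [pResidualOf_eq_closure, pResidualOf_eq_closure]
    have hmapE : ∀ F : Subgroup H, (F ⊔ pCore p H).map (QuotientGroup.mk' (pCore p H)) =
        F.map (QuotientGroup.mk' (pCore p H)) := fun F => by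
      rw [Subgroup.map_sup, hQbot, sup_bot_eq]
    have := resOf_eq_of_map_eq (p := p) (pCore p H) (E ⊔ pCore p H) (K ⊔ pCore p H)
      le_sup_right le_sup_right (by rw [hmapE, hmapE]; exact h3)
    exact this
  · right
    rw [Subgroup.commutator_le]
    intro e he k hk
    have h4 := h3 _ ⟨e, he, rfl⟩ _ ⟨k, hk, rfl⟩
    rw [← QuotientGroup.eq_one_iff]
    have h5 : ((⁅e, k⁆ : H) : H ⧸ pCore p H) =
        ⁅QuotientGroup.mk' (pCore p H) e, QuotientGroup.mk' (pCore p H) k⁆ :=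
      map_commutatorElement (QuotientGroup.mk' (pCore p H)) e k
    rw [h5, commutatorElement_eq_one_iff_mul_comm]
    exact h4

end Cfsg.Agent.S2855P
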