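import Cfsg.Prelude.Def_LocalStructure
import Cfsg.Agent.Helper14.Irreducible4
import Cfsg.Agent.Helper14.Subnormal2
import Cfsg.Agent.Helper14.PReduced4
import Cfsg.Agent.Helper14.ThreeMinTRANSPORT

/-!
S2855 (p-minimal / p-irreducible from a transitive family): shared definitions for the piece project.
-/

set_option autoImplicit false

namespace Cfsg.Agent.S2855P

open Cfsg

/-- `O^p(E)` viewed in the ambient group: generated by the `p'`-elements of `E`. -/
def resOf {G : Type*} [Group G] (p : ℕ) (E : Subgroup G) : Subgroup G :=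
  Subgroup.closure {g : G | g ∈ E ∧ Nat.Coprime (orderOf g) p}

/-- The reduced setting (`O_p(G) = 1`) of the second half of S2855. -/
structure Red (p : ℕ) (G : Type*) [Group G] (𝒦 : Set (Subgroup G)) : Prop where
  core : pCore p G = ⊥
  ne : 𝒦.Nonempty
  inv : ∀ h : G, ∀ E ∈ 𝒦, E.map (MulAut.conj h).toMonoidHom ∈ 𝒦
  tr : ∀ E ∈ 𝒦, ∀ K ∈ 𝒦, ∃ h : G, K = E.map (MulAut.conj h).toMonoidHom
  res : pResidual p G ≤ sSup 𝒦
  norm : ∀ E ∈ 𝒦, sSup 𝒦 ≤ Subgroup.normalizer ((E : Subgroup G) : Set G)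
  irr : ∀ E ∈ 𝒦, IsStronglyPIrreducible p ↥E

/-- `M` is (the image in `H` of) a maximal subgroup of `E` containing `T ∩ E`. -/
def IsMaxOver {H : Type*} [Group H] (T E M : Subgroup H) : Prop :=
  M ≤ E ∧ IsCoatom (M.subgroupOf E) ∧ T ⊓ E ≤ M

end Cfsg.Agent.S2855P
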