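import Cfsg.Agent.Helper25.S2855EXT
import Cfsg.Agent.Helper25.S2855NPC
import Cfsg.Agent.Helper20.S2855GEN
import Cfsg.Agent.Helper14.S2855CENT1
import Cfsg.Agent.Helper20.S2855PPRIME
import Cfsg.Agent.Helper23.S2855CONJ
import Cfsg.Agent.Helper11.S2855NOTCLOSED
import Cfsg.Agent.Helper11.S2855IRR1

/-!
S2855 piece project: assembly of the reduced theorem (`O_p(G) = 1`).
-/

set_option autoImplicit false
set_option linter.unusedSectionVars false
set_option linter.unusedVariables false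

namespace Cfsg.Agent.S2855P

open Cfsg Cfsg.Agent.Helper14
open scoped commutatorElement

variable {G : Type*} [Group G] [Finite G] {p : ℕ} [Fact p.Prime] {𝒦 : Set (Subgroup G)}

theorem Red.normal (hr : Red p G 𝒦) : (sSup 𝒦).Normal := by
  constructor
  intro x hx g
  have h1 : g * x * g⁻¹ ∈ (sSup 𝒦).map (MulAut.conj g).toMonoidHom := ⟨x, hx, rfl⟩
  have h2 : (sSup 𝒦).map (MulAut.conj g).toMonoidHom ≤ sSup 𝒦 := by
    rw [Subgroup.map_le_iff_le_comap]
    apply sSup_le
    intro E hE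
    rw [← Subgroup.map_le_iff_le_comap]
    exact _root_.le_sSup (hr.inv g E hE)
  exact h2 h1

theorem Red.le_sSup (hr : Red p G 𝒦) {E : Subgroup G} (hE : E ∈ 𝒦) : E ≤ sSup 𝒦 :=
  _root_.le_sSup hE

theorem isSubnormal_of_chain {R X : Subgroup G} (hR : R.Normal) (hXR : X ≤ R)
    (hRX : R ≤ Subgroup.normalizer (X : Set G)) : X.IsSubnormal :=
  Subgroup.IsSubnormal.step X R hXR hR.isSubnormal
    ((Subgroup.normal_subgroupOf_iff_le_normalizer hXR).2 hRX)

theorem Red.isSubnormal (hr : Red p G 𝒦) {E : Subgroup G} (hE : E ∈ 𝒦) : E.IsSubnormal :=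
  isSubnormal_of_chain hr.normal (hr.le_sSup hE) (hr.norm E hE)

theorem Red.eq_bot_of_isPGroup (hr : Red p G 𝒦) (X : Subgroup G) (hXR : X ≤ sSup 𝒦)
    (hRX : sSup 𝒦 ≤ Subgroup.normalizer (X : Set G)) (hX : IsPGroup p ↥X) : X = ⊥ := by
  have h1 := le_pCore_of_isSubnormal (isSubnormal_of_chain hr.normal hXR hRX) hX
  rw [hr.core] at h1
  exact le_bot_iff.1 h1

theorem Red.core_eq_bot (hr : Red p G 𝒦) {E : Subgroup G} (hE : E ∈ 𝒦) : pCore p ↥E = ⊥ := by
  have h1 : pCoreOf p E ≤ pCore p G := pCoreOf_le_pCore_of_isSubnormal (hr.isSubnormal hE)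
  rw [hr.core, le_bot_iff] at h1
  unfold pCoreOf at h1
  exact (Subgroup.map_eq_bot_iff_of_injective _ E.subtype_injective).1 h1


theorem le_normalizer_inf' {X A B : Subgroup G} (hA : X ≤ Subgroup.normalizer (A : Set G))
    (hB : X ≤ Subgroup.normalizer (B : Set G)) :
    X ≤ Subgroup.normalizer ((A ⊓ B : Subgroup G) : Set G) := by
  apply le_normalizer_of_map_cj_le
  intro g hg
  rw [map_cj_inf, mem_normalizer_iff_map_cj.1 (hA hg), mem_normalizer_iff_map_cj.1 (hB hg)]

theorem le_normalizer_of_normal' {X N : Subgroup G} (hN : N.Normal) :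
    X ≤ Subgroup.normalizer (N : Set G) := by
  rw [Subgroup.normalizer_eq_top]; exact le_top

theorem commutatorElement_mem_of_mem_normalizer_left {A : Subgroup G} {e y : G}
    (he : e ∈ A) (hy : y ∈ Subgroup.normalizer (A : Set G)) : ⁅e, y⁆ ∈ A := by
  have h1 : y * e⁻¹ * y⁻¹ ∈ A := (Subgroup.mem_normalizer_iff.1 hy e⁻¹).1 (A.inv_mem he)
  have : ⁅e, y⁆ = e * (y * e⁻¹ * y⁻¹) := by rw [commutatorElement_def]; group
  rw [this]
  exact A.mul_mem he h1

theorem commutatorElement_mem_of_mem_normalizer_right {A : Subgroup G} {e y : G}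
    (he : e ∈ Subgroup.normalizer (A : Set G)) (hy : y ∈ A) : ⁅e, y⁆ ∈ A := by
  have h1 : e * y * e⁻¹ ∈ A := (Subgroup.mem_normalizer_iff.1 he y).1 hy
  have : ⁅e, y⁆ = (e * y * e⁻¹) * y⁻¹ := by rw [commutatorElement_def]
  rw [this]
  exact A.mul_mem h1 (A.inv_mem hy)

/-- CENT -/
theorem cent (E : Subgroup G) (hE : IsStronglyPIrreducible p ↥E) (hcore : pCore p ↥E = ⊥)
    (A Y : Subgroup G) (hEY : E ≤ Subgroup.normalizer (Y : Set G))
    (hcomm : ∀ e ∈ E, ∀ y ∈ Y, ⁅e, y⁆ ∈ A)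
    (hAE : ∀ a ∈ A, ∀ e ∈ E, a * e = e * a) (hA : ∀ a ∈ A, a ^ p = 1 → a = 1) :
    ∀ e ∈ E, ∀ y ∈ Y, e * y = y * e := by
  set C : Subgroup G := E ⊓ Subgroup.centralizer (Y : Set G) with hC
  have hCE : C ≤ E := inf_le_left
  have hpel : ∀ t ∈ E, (∃ k : ℕ, t ^ (p ^ k) = 1) → t ∈ C := by
    intro t ht hk
    refine Subgroup.mem_inf.2 ⟨ht, ?_⟩
    rw [Subgroup.mem_centralizer_iff]
    intro y hy
    exact (pElement_comm E A Y hcomm hAE hA t ht hk y hy).symm
  have hEC : E ≤ Subgroup.normalizer (C : Set G) := by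
    apply le_normalizer_inf' Subgroup.le_normalizer
    apply le_normalizer_of_map_cj_le
    intro g hg
    rw [map_cj_centralizer, mem_normalizer_iff_map_cj.1 (hEY hg)]
  have hnc := not_central_of_pElements E hE.1 C hCE hpel
  have h1 := spi_ext E hE hcore C hCE hEC hnc
  have h2 := le_of_resOf_le_of_pElements E C h1 hpel
  intro e he y hy
  have := (Subgroup.mem_inf.1 (h2 he)).2
  rw [Subgroup.mem_centralizer_iff] at this
  exact (this y hy).symm

theorem resOf_le_resOf_of_le {E K : Subgroup G} (h : resOf p E ≤ K) : resOf p E ≤ resOf p K := by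
  unfold resOf at h ⊢
  rw [Subgroup.closure_le]
  intro x hx
  exact Subgroup.subset_closure ⟨h (Subgroup.subset_closure hx), hx.2⟩

theorem resOf_le (E : Subgroup G) : resOf p E ≤ E := by
  unfold resOf
  rw [Subgroup.closure_le]
  intro x hx
  exact hx.1

theorem resOf_eq_of_le_of_conj {E K : Subgroup G} (hle : resOf p E ≤ K) (g : G)
    (h : K = E.map (MulAut.conj g).toMonoidHom) : resOf p E = resOf p K := by
  apply Subgroup.eq_of_le_of_card_ge (resOf_le_resOf_of_le hle)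
  rw [h, resOf_map_conj, Subgroup.card_map_of_injective (MulAut.conj g).injective]

theorem Red.claimA (hr : Red p G 𝒦) {E K : Subgroup G} (hE : E ∈ 𝒦) (hK : K ∈ 𝒦) :
    resOf p E = resOf p K ∨ ∀ e ∈ E, ∀ k ∈ K, e * k = k * e := by
  have hEnK : E ≤ Subgroup.normalizer (K : Set G) := (hr.le_sSup hE).trans (hr.norm K hK)
  have hKnE : K ≤ Subgroup.normalizer (E : Set G) := (hr.le_sSup hK).trans (hr.norm E hE)
  have hRD : sSup 𝒦 ≤ Subgroup.normalizer ((E ⊓ K : Subgroup G) : Set G) :=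
    le_normalizer_inf' (hr.norm E hE) (hr.norm K hK)
  by_cases h1 : ∀ d ∈ E ⊓ K, ∀ e ∈ E, d * e = e * d
  · by_cases h2 : ∀ d ∈ E ⊓ K, ∀ k ∈ K, d * k = k * d
    · right
      apply cent E (hr.irr E hE) (hr.core_eq_bot hE) (E ⊓ K) K hEnK
      · intro e he k hk
        exact ⟨commutatorElement_mem_of_mem_normalizer_left he (hKnE hk),
          commutatorElement_mem_of_mem_normalizer_right (hEnK he) hk⟩
      · exact h1
      · exact no_pElements_of_abelian (sSup 𝒦) (E ⊓ K) (fun X => hr.eq_bot_of_isPGroup X)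
          (inf_le_left.trans (hr.le_sSup hE)) hRD (fun a ha b hb => h1 a ha b hb.1)
    · left
      have h3 : resOf p K ≤ E ⊓ K := by
        have := spi_ext K (hr.irr K hK) (hr.core_eq_bot hK) (E ⊓ K) inf_le_right
          ((hr.le_sSup hK).trans hRD) h2
        exact this
      obtain ⟨g, hg⟩ := hr.tr K hK E hE
      exact (resOf_eq_of_le_of_conj (h3.trans inf_le_left) g hg).symm
  · left
    have h3 : resOf p E ≤ E ⊓ K :=
      spi_ext E (hr.irr E hE) (hr.core_eq_bot hE) (E ⊓ K) inf_le_left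
        ((hr.le_sSup hE).trans hRD) h1
    obtain ⟨g, hg⟩ := hr.tr E hE K hK
    exact resOf_eq_of_le_of_conj (h3.trans inf_le_right) g hg

/-- IRR2 -/
theorem Red.isPClosed_of_central (hr : Red p G 𝒦) (N : Subgroup G) [hN : N.Normal]
    (h : ∀ E ∈ 𝒦, ∀ n ∈ N ⊓ E, ∀ e ∈ E, n * e = e * n) : IsPClosed p ↥N := by
  have hRn : (sSup 𝒦).Normal := hr.normal
  have hNR : (N ⊓ sSup 𝒦).Normal := inferInstance
  have s1 : ∀ E ∈ 𝒦, ∀ e ∈ E, ∀ y ∈ N ⊓ sSup 𝒦, e * y = y * e := by
    intro E hE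
    apply cent E (hr.irr E hE) (hr.core_eq_bot hE) (N ⊓ E) (N ⊓ sSup 𝒦)
      (le_normalizer_of_normal' hNR)
    · intro e he y hy
      exact ⟨commutatorElement_mem_of_mem_normalizer_right
          (le_normalizer_of_normal' (X := ⊤) hN (Subgroup.mem_top e)) hy.1,
        commutatorElement_mem_of_mem_normalizer_left he (hr.norm E hE hy.2)⟩
    · exact h E hE
    · exact no_pElements_of_abelian (sSup 𝒦) (N ⊓ E) (fun X => hr.eq_bot_of_isPGroup X)
        (inf_le_right.trans (hr.le_sSup hE))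
        (le_normalizer_inf' (le_normalizer_of_normal' hN) (hr.norm E hE))
        (fun a ha b hb => h E hE a ha b hb.2)
  have s1' : ∀ r ∈ sSup 𝒦, ∀ y ∈ N ⊓ sSup 𝒦, r * y = y * r := by
    have : sSup 𝒦 ≤ Subgroup.centralizer ((N ⊓ sSup 𝒦 : Subgroup G) : Set G) := by
      apply sSup_le
      intro E hE e he
      rw [Subgroup.mem_centralizer_iff]
      intro y hy
      exact (s1 E hE e he y hy).symm
    intro r hr' y hy
    have := this hr'
    rw [Subgroup.mem_centralizer_iff] at this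
    exact (this y hy).symm
  have s2 : ∀ E ∈ 𝒦, ∀ e ∈ E, ∀ y ∈ N, e * y = y * e := by
    intro E hE
    apply cent E (hr.irr E hE) (hr.core_eq_bot hE) (N ⊓ sSup 𝒦) N
      (le_normalizer_of_normal' hN)
    · intro e he y hy
      exact ⟨commutatorElement_mem_of_mem_normalizer_right
          (le_normalizer_of_normal' (X := ⊤) hN (Subgroup.mem_top e)) hy,
        commutatorElement_mem_of_mem_normalizer_left (hr.le_sSup hE he)
          (le_normalizer_of_normal' (X := ⊤) hRn (Subgroup.mem_top y))⟩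
    · intro a ha e he
      exact (s1 E hE e he a ha).symm
    · exact no_pElements_of_abelian (sSup 𝒦) (N ⊓ sSup 𝒦) (fun X => hr.eq_bot_of_isPGroup X)
        inf_le_right (le_normalizer_of_normal' hNR)
        (fun a ha b hb => (s1' b hb.2 a ha).symm)
  have s2' : sSup 𝒦 ≤ Subgroup.centralizer ((N : Subgroup G) : Set G) := by
    apply sSup_le
    intro E hE e he
    rw [Subgroup.mem_centralizer_iff]
    intro y hy
    exact (s2 E hE e he y hy).symm
  obtain ⟨T⟩ : Nonempty (Sylow p G) := inferInstance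
  rw [isPClosed_normal_iff T N]
  have h3 : sSup 𝒦 ⊔ (T : Subgroup G) ≤
      Subgroup.normalizer ((((T : Subgroup G) ⊓ N : Subgroup G)) : Set G) := by
    apply sup_le
    · refine s2'.trans ((Subgroup.centralizer_le ?_).trans (Subgroup.centralizer_le_normalizer _))
      exact inf_le_right
    · exact le_normalizer_inf' Subgroup.le_normalizer (le_normalizer_of_normal' hN)
  have h4 : (⊤ : Subgroup G) ≤ sSup 𝒦 ⊔ (T : Subgroup G) := by
    rw [← pResidual_sup_sylow T]
    exact sup_le_sup_right hr.res _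
  exact Subgroup.normalizer_eq_top_iff.1 (top_le_iff.1 (h4.trans h3))

theorem Red.main (hr : Red p G 𝒦) : IsPIrreducible p G ∧
    ∀ E ∈ 𝒦, ∀ K ∈ 𝒦, resOf p E = resOf p K ∨ ∀ e ∈ E, ∀ k ∈ K, e * k = k * e := by
  refine ⟨⟨hr.not_isPClosed, ?_⟩, fun E hE K hK => hr.claimA hE hK⟩
  intro N hN hncl
  by_cases hc : ∀ E ∈ 𝒦, ∀ n ∈ N ⊓ E, ∀ e ∈ E, n * e = e * n
  · exact absurd (hr.isPClosed_of_central N hc) hncl
  · push Not at hc
    obtain ⟨E, hE, n, hn, e, he, hne⟩ := hc
    have h1 : resOf p E ≤ N ⊓ E :=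
      spi_ext E (hr.irr E hE) (hr.core_eq_bot hE) (N ⊓ E) inf_le_right
        (le_normalizer_inf' (le_normalizer_of_normal' hN) Subgroup.le_normalizer)
        (fun hall => hne (hall n hn e he))
    apply hr.pResidual_le N
    intro K hK
    obtain ⟨g, rfl⟩ := hr.tr E hE K hK
    rw [resOf_map_conj]
    have h2 : N.map (MulAut.conj g).toMonoidHom = N :=
      mem_normalizer_iff_map_cj.1 (le_normalizer_of_normal' (X := ⊤) hN (Subgroup.mem_top g))
    rw [← h2]
    exact Subgroup.map_mono (h1.trans inf_le_left)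

end Cfsg.Agent.S2855P
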