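import Cfsg.Agent.S2855P.Defs

/-!
S2855 piece project: stubs of all pieces (statements only).
A piece `NAME` is delivered as `Cfsg/Agent/S2855P/NAME.lean`, importing `Cfsg.Agent.S2855P.Defs`
(plus anything on main), proving the theorem with EXACTLY the name and statement below
(namespace `Cfsg.Agent.S2855P`).
-/

set_option autoImplicit false

namespace Cfsg.Agent.S2855P

open Cfsg
open scoped commutatorElement

section General

variable {G : Type*} [Group G] [Finite G] {p : ℕ} [Fact p.Prime]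

/-- piece EXT: strong `p`-irreducibility of `E` (with `O_p(E) = 1`) read inside the ambient group. -/
theorem spi_ext (E : Subgroup G) (hE : IsStronglyPIrreducible p ↥E) (hcore : pCore p ↥E = ⊥)
    (N : Subgroup G) (hNE : N ≤ E) (hEN : E ≤ Subgroup.normalizer (N : Set G))
    (hc : ¬ ∀ n ∈ N, ∀ e ∈ E, n * e = e * n) : resOf p E ≤ N := by
  sorry

/-- piece NPC: a subgroup of `E` containing all `p`-elements of `E` is not central in `E`
when `E` is not `p`-closed. -/
theorem not_central_of_pElements (E : Subgroup G) (hE : ¬ IsPClosed p ↥E) (C : Subgroup G)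
    (hCE : C ≤ E) (hp : ∀ t ∈ E, (∃ k : ℕ, t ^ (p ^ k) = 1) → t ∈ C) :
    ¬ ∀ c ∈ C, ∀ e ∈ E, c * e = e * c := by
  sorry

/-- piece GEN: `E` is generated by `O^p(E)` and its `p`-elements. -/
theorem le_of_resOf_le_of_pElements (E C : Subgroup G) (hres : resOf p E ≤ C)
    (hp : ∀ t ∈ E, (∃ k : ℕ, t ^ (p ^ k) = 1) → t ∈ C) : E ≤ C := by
  sorry

/-- piece CENT1: `p`-elements of `E` centralize `Y` when `[E, Y]` lies in a subgroup `A` centralized
by `E` and without elements of order `p`. -/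
theorem pElement_comm (E A Y : Subgroup G) (hcomm : ∀ e ∈ E, ∀ y ∈ Y, ⁅e, y⁆ ∈ A)
    (hAE : ∀ a ∈ A, ∀ e ∈ E, a * e = e * a) (hA : ∀ a ∈ A, a ^ p = 1 → a = 1) :
    ∀ t ∈ E, (∃ k : ℕ, t ^ (p ^ k) = 1) → ∀ y ∈ Y, t * y = y * t := by
  sorry

/-- piece PPRIME: an abelian subgroup `A ≤ R` normalized by `R` has no elements of order `p`, if `R` has
no nontrivial normal `p`-subgroups. -/
theorem no_pElements_of_abelian (R A : Subgroup G)
    (hN : ∀ X : Subgroup G, X ≤ R → R ≤ Subgroup.normalizer (X : Set G) → IsPGroup p ↥X → X = ⊥)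
    (hAR : A ≤ R) (hRA : R ≤ Subgroup.normalizer (A : Set G))
    (hab : ∀ a ∈ A, ∀ b ∈ A, a * b = b * a) : ∀ a ∈ A, a ^ p = 1 → a = 1 := by
  sorry

/-- piece CONJ: `O^p` commutes with conjugation. -/
theorem resOf_map_conj (E : Subgroup G) (h : G) :
    resOf p (E.map (MulAut.conj h).toMonoidHom) = (resOf p E).map (MulAut.conj h).toMonoidHom := by
  sorry

/-- piece PGEN: a subgroup generated by `p`-subgroups which it normalizes is a `p`-group. -/
theorem isPGroup_sSup_of_normalizes (S : Set (Subgroup G)) (hp : ∀ X ∈ S, IsPGroup p ↥X)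
    (hn : ∀ X ∈ S, sSup S ≤ Subgroup.normalizer (X : Set G)) : IsPGroup p ↥(sSup S) := by
  sorry

/-- piece SPIEQUIV: strong `p`-irreducibility is invariant under isomorphism. -/
theorem isStronglyPIrreducible_of_mulEquiv {A B : Type*} [Group A] [Group B] [Finite A]
    (e : A ≃* B) (h : IsStronglyPIrreducible p A) : IsStronglyPIrreducible p B := by
  sorry

/-- piece SPIMAP: the image of a strongly `p`-irreducible subgroup modulo a normal `p`-subgroup is
strongly `p`-irreducible. -/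
theorem isStronglyPIrreducible_map_mk (Q : Subgroup G) [Q.Normal] (hQ : IsPGroup p ↥Q)
    (E : Subgroup G) (hE : IsStronglyPIrreducible p ↥E) :
    IsStronglyPIrreducible p ↥(E.map (QuotientGroup.mk' Q)) := by
  sorry

/-- piece RESBACK: `O^p(X)` for `X ≥ Q` is determined by `O^p` of the image of `X` modulo `Q`. -/
theorem resOf_eq_of_map_eq (Q : Subgroup G) [Q.Normal] (X Y : Subgroup G) (hQX : Q ≤ X)
    (hQY : Q ≤ Y)
    (h : resOf p (X.map (QuotientGroup.mk' Q)) = resOf p (Y.map (QuotientGroup.mk' Q))) :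
    resOf p X = resOf p Y := by
  sorry

end General

section Reduced

variable {G : Type*} [Group G] [Finite G] {p : ℕ} [Fact p.Prime] {𝒦 : Set (Subgroup G)}

/-- piece NOTCLOSED -/
theorem Red.not_isPClosed (hr : Red p G 𝒦) : ¬ IsPClosed p G := by
  sorry

/-- piece IRR1: if all `O^p(K)`, `K ∈ 𝒦`, lie in the normal subgroup `N` then so does `O^p(G)`. -/
theorem Red.pResidual_le (hr : Red p G 𝒦) (N : Subgroup G) [N.Normal]
    (h : ∀ K ∈ 𝒦, resOf p K ≤ N) : pResidual p G ≤ N := by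
  sorry

end Reduced

section Minimal

variable {H : Type*} [Group H] [Finite H] {p : ℕ} [Fact p.Prime]

/-- piece NCL -/
theorem normalClosure_sylow_eq_top (𝒦 : Set (Subgroup H)) (hres : pResidual p H ≤ sSup 𝒦)
    (hgen : ∀ E ∈ 𝒦, ∀ T : Sylow p ↥E,
      Subgroup.normalClosure (((T : Subgroup ↥E) : Subgroup ↥E) : Set ↥E) = ⊤)
    (T : Sylow p H) : Subgroup.normalClosure (((T : Subgroup H) : Subgroup H) : Set H) = ⊤ := by
  sorry

/-- piece SYLINT: `T ∩ E` is a Sylow `p`-subgroup of `E` when `EQ ⊴ RQ ⊴ H`. -/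
theorem sylow_inf_isSylowIn_of_chain (T : Sylow p H) (Q RQ E : Subgroup H) [Q.Normal] [RQ.Normal]
    (hQ : IsPGroup p ↥Q) (hE : E ⊔ Q ≤ RQ)
    (hn : RQ ≤ Subgroup.normalizer ((E ⊔ Q : Subgroup H) : Set H)) :
    Helper14.IsSylowIn p ((T : Subgroup H) ⊓ E) E := by
  sorry

/-- piece EXUN: the unique maximal subgroup of `E` over the Sylow subgroup `T ∩ E`, seen in `H`. -/
theorem exists_unique_isMaxOver (T E : Subgroup H) (S : Sylow p ↥E)
    (hS : (S : Subgroup ↥E) = T.subgroupOf E) (hmin : IsMinimalOver (S : Subgroup ↥E)) :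
    ∃ M, IsMaxOver T E M ∧ ∀ M', IsMaxOver T E M' → M' = M := by
  sorry

/-- piece NOTLE: no member of `𝒦` lies in a maximal subgroup containing a Sylow `p`-subgroup. -/
theorem not_le_coatom (𝒦 : Set (Subgroup H))
    (htr : ∀ E ∈ 𝒦, ∀ K ∈ 𝒦, ∃ h : H, K = E.map (MulAut.conj h).toMonoidHom)
    (hinv : ∀ h : H, ∀ E ∈ 𝒦, E.map (MulAut.conj h).toMonoidHom ∈ 𝒦)
    (hres : pResidual p H ≤ sSup 𝒦)
    (hnorm : ∀ E ∈ 𝒦, sSup 𝒦 ⊔ pCore p H ≤
      Subgroup.normalizer ((E ⊔ pCore p H : Subgroup H) : Set H))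
    (T : Sylow p H) (L : Subgroup H) (hL : IsCoatom L) (hTL : (T : Subgroup H) ≤ L) :
    ∀ E ∈ 𝒦, ¬ E ≤ L := by
  sorry

/-- piece INTLE -/
theorem inf_le_of_unique_isMaxOver (T L E M : Subgroup H) (hTL : T ≤ L) (hEL : ¬ E ≤ L)
    (huniq : ∀ M', IsMaxOver T E M' → M' = M) : L ⊓ E ≤ M := by
  sorry

/-- piece PROP -/
theorem isMaxOver_map_conj (T L E M : Subgroup H) (hTL : T ≤ L) (h : H) (hh : h ∈ L)
    (hM : IsMaxOver T E M) (hLE : L ⊓ E ≤ M) :
    IsMaxOver T (E.map (MulAut.conj h).toMonoidHom) (M.map (MulAut.conj h).toMonoidHom) := by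
  sorry

end Minimal

end Cfsg.Agent.S2855P
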